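import Mathlib
import Groth.Agent.CotTLib.Relations
import Groth.Agent.RegComplLib.Basic

/-! Complete intersections in affine space over a perfect field: the presentation of the differentials by
the Jacobian matrix, injective when the algebra is reduced. -/

set_option autoImplicit false
set_option backward.isDefEq.respectTransparency false
set_option backward.isDefEq.respectTransparency.types false
set_option linter.style.haveILetI false

universe u

namespace Groth.Agent.FittExtLib

open MvPolynomial

variable {k : Type u} [CommRing k] {r c : ℕ} {B : Type u} [CommRing B] [Algebra k B]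

theorem derivation_eq_sum {M : Type u} [AddCommGroup M] [Module k M] [Module (MvPolynomial (Fin r) k) M]
    (D : Derivation k (MvPolynomial (Fin r) k) M) (p : MvPolynomial (Fin r) k) :
    D p = ∑ j, pderiv j p • D (X j) := by
  classical
  induction p using MvPolynomial.induction_on with
  | C a => simp [derivation_C]
  | add p q hp hq => simp [map_add, hp, hq, add_smul, Finset.sum_add_distrib]
  | mul_X p i hp =>
    rw [D.leibniz, hp, Finset.smul_sum]
    simp only [Derivation.leibniz, smul_eq_mul, add_smul, Finset.sum_add_distrib, smul_smul]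
    congr 1
    rw [Finset.sum_eq_single i]
    · simp
    · intro j _ hj; simp [pderiv_X_of_ne (Ne.symm hj)]
    · simp

variable (φ : MvPolynomial (Fin r) k →ₐ[k] B) (a : Fin c → MvPolynomial (Fin r) k)

/-- The Jacobian matrix of the equations, in `B`. -/
noncomputable def jac : Fin c → Fin r → B := fun i m => φ (pderiv m (a i))

/-- The generators of the differentials. -/
noncomputable def dgen : Fin r → Ω[B⁄k] := fun m => KaehlerDifferential.D k B (φ (X m))

variable {φ a}

theorem D_map (p : MvPolynomial (Fin r) k) :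
    KaehlerDifferential.D k B (φ p) = ∑ m, φ (pderiv m p) • dgen φ m := by
  letI := φ.toRingHom.toAlgebra
  haveI : IsScalarTower k (MvPolynomial (Fin r) k) B := IsScalarTower.of_algebraMap_eq' (φ.comp_algebraMap).symm
  exact derivation_eq_sum ((KaehlerDifferential.D k B).compAlgebraMap (MvPolynomial (Fin r) k)) p

theorem span_dgen (hφ : Function.Surjective φ) : Submodule.span B (Set.range (dgen φ)) = ⊤ := by
  rw [eq_top_iff, ← KaehlerDifferential.span_range_derivation, Submodule.span_le]
  rintro _ ⟨b, rfl⟩
  obtain ⟨p, rfl⟩ := hφ b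
  rw [SetLike.mem_coe, D_map]
  exact Submodule.sum_mem _ fun m _ => Submodule.smul_mem _ _ (Submodule.subset_span ⟨m, rfl⟩)

theorem rel_iff (hφ : Function.Surjective φ) (hker : RingHom.ker φ.toRingHom = Ideal.span (Set.range a))
    (z : Fin r → B) :
    ∑ m, z m • dgen φ m = 0 ↔ z ∈ Submodule.span B (Set.range (jac φ a)) := by
  classical
  constructor
  · intro hz
    let S : Submodule B (Fin r → B) := Submodule.span B (Set.range (jac φ a))
    let G : MvPolynomial (Fin r) k → (Fin r → B) ⧸ S := fun p => Submodule.Quotient.mk fun m => φ (pderiv m p)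
    have hG_add : ∀ p q, G (p + q) = G p + G q := fun p q => by
      rw [← Submodule.Quotient.mk_add]; exact congrArg _ (_root_.funext fun m => by simp)
    have hG_mul : ∀ p q, G (p * q) = φ p • G q + φ q • G p := fun p q => by
      rw [← Submodule.Quotient.mk_smul, ← Submodule.Quotient.mk_smul, ← Submodule.Quotient.mk_add]
      refine congrArg _ (_root_.funext fun m => ?_)
      simp only [Derivation.leibniz, map_add, smul_eq_mul, map_mul, Pi.add_apply, Pi.smul_apply]
    have hG0 : ∀ p, φ p = 0 → G p = 0 := fun p hp => by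
      have hp' : p ∈ Ideal.span (Set.range a) := hker ▸ (RingHom.mem_ker.mpr hp)
      obtain ⟨w, hw⟩ := Ideal.mem_span_range_iff_exists_fun.mp hp'
      have hai : ∀ i, φ (a i) = 0 := fun i => RingHom.mem_ker.mp
        (show a i ∈ RingHom.ker φ.toRingHom by rw [hker]; exact Ideal.subset_span ⟨i, rfl⟩)
      rw [← hw]
      refine (Submodule.Quotient.mk_eq_zero _).mpr ?_
      have he : (fun m => φ (pderiv m (∑ i, w i * a i))) = ∑ i, φ (w i) • jac φ a i := by
        funext m
        simp [jac, Finset.sum_apply, Derivation.leibniz, hai]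
      rw [he]
      exact Submodule.sum_mem _ fun i _ => Submodule.smul_mem _ _ (Submodule.subset_span ⟨i, rfl⟩)
    let lift := Function.surjInv hφ
    have hl : ∀ b, φ (lift b) = b := Function.surjInv_eq hφ
    have hGeq : ∀ p q, φ p = φ q → G p = G q := fun p q h => by
      have h1 := hG0 (p - q) (by rw [map_sub, h, sub_self])
      have h2 := hG_add (p - q) q
      rw [sub_add_cancel, h1, zero_add] at h2
      exact h2
    have hC : ∀ t : k, G (C t) = 0 := fun t =>
      (Submodule.Quotient.mk_eq_zero _).mpr (by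
        rw [show (fun m => φ (pderiv m (C t : MvPolynomial (Fin r) k))) = 0 from _root_.funext fun m => by simp]
        exact S.zero_mem)
    let L : B →ₗ[k] (Fin r → B) ⧸ S :=
      { toFun := fun b => G (lift b)
        map_add' := fun b b' => by
          rw [← hG_add]; exact hGeq _ _ (by rw [map_add, hl, hl, hl])
        map_smul' := fun t b => by
          rw [RingHom.id_apply, hGeq (lift (t • b)) (C t * lift b) (by
            rw [map_mul, hl, hl, ← algebraMap_eq, AlgHom.commutes, Algebra.smul_def]),
            hG_mul, hC, smul_zero, add_zero, ← algebraMap_eq, AlgHom.commutes, algebraMap_smul] }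
    have hL1 : ∀ b b', L (b * b') = b • L b' + b' • L b := fun b b' => by
      show G _ = b • G _ + b' • G _
      rw [hGeq (lift (b * b')) (lift b * lift b') (by rw [map_mul, hl, hl, hl]), hG_mul, hl, hl]
    let D : Derivation k B ((Fin r → B) ⧸ S) := Derivation.mk' L hL1
    have hX : ∀ m, D.liftKaehlerDifferential (dgen φ m) = Submodule.Quotient.mk (Pi.single m (1 : B)) := fun m => by
      rw [dgen, Derivation.liftKaehlerDifferential_comp_D]
      show G (lift (φ (X m))) = _
      rw [hGeq _ (X m) (hl _)]
      refine congrArg _ (_root_.funext fun j => ?_)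
      by_cases hj : j = m
      · subst hj; simp
      · rw [pderiv_X_of_ne (Ne.symm hj), map_zero, Pi.single_eq_of_ne hj]
    have h3 := congrArg D.liftKaehlerDifferential hz
    rw [map_sum, map_zero] at h3
    simp only [map_smul, hX] at h3
    rw [← Submodule.Quotient.mk_eq_zero, ← h3]
    conv_lhs => rw [pi_eq_sum_univ' z]
    rw [← Submodule.mkQ_apply, map_sum]
    simp only [map_smul, Submodule.mkQ_apply]
  · intro hz
    obtain ⟨w, rfl⟩ := (Submodule.mem_span_range_iff_exists_fun B).mp hz
    have hai : ∀ i, φ (a i) = 0 := fun i => RingHom.mem_ker.mp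
      (show a i ∈ RingHom.ker φ.toRingHom by rw [hker]; exact Ideal.subset_span ⟨i, rfl⟩)
    have h0 : ∀ i, ∑ m, jac φ a i m • dgen φ m = 0 := fun i => by
      show ∑ m, φ (pderiv m (a i)) • dgen φ m = 0
      rw [← D_map, hai, map_zero]
    simp only [Finset.sum_apply, Pi.smul_apply, smul_eq_mul, Finset.sum_smul]
    rw [Finset.sum_comm]
    refine Finset.sum_eq_zero fun i _ => ?_
    simp only [mul_smul]
    rw [← Finset.smul_sum, h0, smul_zero]

section Field

open CotTLib in
theorem regFam_of_ofFn {R : Type*} [CommRing R] {n : ℕ} (f : Fin n → R)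
    (h : RingTheory.Sequence.IsWeaklyRegular R (List.ofFn f)) : RegFam f := by
  have h1 := regFam_of_isWeaklyRegular h
  intro i x hx
  have hlen : (List.ofFn f).length = n := List.length_ofFn
  have hset : (fun j : Fin (List.ofFn f).length => (List.ofFn f)[j]) '' {j | j < Fin.cast hlen.symm i}
      = f '' {j | j < i} := by
    ext y
    simp only [Set.mem_image, Set.mem_setOf_eq]
    constructor
    · rintro ⟨j, hj, rfl⟩
      exact ⟨Fin.cast hlen j, Fin.lt_def.2 (Fin.lt_def.1 hj), (List.getElem_ofFn _).symm⟩
    · rintro ⟨j, hj, rfl⟩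
      refine ⟨Fin.cast hlen.symm j, Fin.lt_def.2 (Fin.lt_def.1 hj), ?_⟩
      exact (List.getElem_ofFn _).trans rfl
  have h2 := h1 (Fin.cast hlen.symm i) x (by rw [hset]; simpa using hx)
  rwa [hset] at h2


variable {k : Type u} [Field k] [PerfectField k] {B : Type u} [CommRing B] [Algebra k B]
  {φ : MvPolynomial (Fin r) k →ₐ[k] B} {a : Fin c → MvPolynomial (Fin r) k}

theorem coeff_mem_span (hreg : RingTheory.Sequence.IsWeaklyRegular (MvPolynomial (Fin r) k) (List.ofFn a))
    (w : Fin c → MvPolynomial (Fin r) k) (hw : ∑ i, w i * a i = 0) (i : Fin c) :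
    w i ∈ Ideal.span (Set.range a) := by
  classical
  have hf : CotTLib.RegFam a := regFam_of_ofFn a hreg
  let q : Fin c →₀ MvPolynomial (Fin r) k := Finsupp.equivFunOnFinite.symm w
  have hq : Finsupp.linearCombination (MvPolynomial (Fin r) k) a q = 0 := by
    rw [Finsupp.linearCombination_apply, Finsupp.sum_fintype _ _ (by simp), ← hw]
    rfl
  have h1 := CotTLib.ker_le_trivR a hf (LinearMap.mem_ker.2 hq)
  have hJ : ∀ x : Fin c →₀ MvPolynomial (Fin r) k, Finsupp.linearCombination _ a x ∈ Ideal.span (Set.range a) :=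
    fun x => (CotTLib.mem_span_range_iff _ a).mpr ⟨x, rfl⟩
  have h2 : ∀ y ∈ CotTLib.trivR a, ∀ j, y j ∈ Ideal.span (Set.range a) := by
    intro y hy j
    induction hy using Submodule.span_induction with
    | mem y hy =>
      obtain ⟨x, x', rfl⟩ := hy
      rw [Finsupp.sub_apply, Finsupp.smul_apply, Finsupp.smul_apply, smul_eq_mul, smul_eq_mul]
      exact Ideal.sub_mem _ (Ideal.mul_mem_right _ _ (hJ x)) (Ideal.mul_mem_right _ _ (hJ x'))
    | zero => exact Submodule.zero_mem _
    | add a b _ _ ha hb => rw [Finsupp.add_apply]; exact Submodule.add_mem _ ha hb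
    | smul t a _ ha => rw [Finsupp.smul_apply, smul_eq_mul]; exact Ideal.mul_mem_left _ _ ha
  exact h2 q h1 i

theorem linearIndependent_jac [IsReduced B] (hφ : Function.Surjective φ)
    (hker : RingHom.ker φ.toRingHom = Ideal.span (Set.range a))
    (hreg : RingTheory.Sequence.IsWeaklyRegular (MvPolynomial (Fin r) k) (List.ofFn a)) :
    LinearIndependent B (jac φ a) := by
  classical
  rw [Fintype.linearIndependent_iff]
  intro z hz i₀
  refine IsNilpotent.eq_zero ?_
  rw [← mem_nilradical, nilradical_eq_sInf, Ideal.mem_sInf]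
  intro P hP
  haveI : P.IsPrime := hP
  obtain ⟨p, hp, hpP⟩ := Ideal.exists_minimalPrimes_le (I := (⊥ : Ideal B)) (bot_le : ⊥ ≤ P)
  refine hpP ?_
  haveI : p.IsPrime := hp.1.1
  let I : Ideal (MvPolynomial (Fin r) k) := Ideal.span (Set.range a)
  choose zt hzt using fun i => hφ (z i)
  let ξ := ∑ i, zt i * a i
  have hai : ∀ i, φ (a i) = 0 := fun i => RingHom.mem_ker.mp
    (show a i ∈ RingHom.ker φ.toRingHom by rw [hker]; exact Ideal.subset_span ⟨i, rfl⟩)
  have hξ : ∀ m, pderiv m ξ ∈ I := fun m => by
    show _ ∈ Ideal.span _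
    rw [← hker, RingHom.mem_ker]
    show φ (pderiv m ξ) = 0
    have := congrFun hz m
    simp only [Finset.sum_apply, Pi.smul_apply, smul_eq_mul, Pi.zero_apply] at this
    simpa [ξ, jac, Derivation.leibniz, hai, hzt] using this
  let Q : Ideal (MvPolynomial (Fin r) k) := p.comap φ.toRingHom
  let P' := Localization.AtPrime Q
  let ι := algebraMap (MvPolynomial (Fin r) k) P'
  have hIQ : I ≤ Q := fun x hx => by
    show φ x ∈ p
    rw [show φ x = 0 from RingHom.mem_ker.mp (show x ∈ RingHom.ker φ.toRingHom by rw [hker]; exact hx)]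
    exact p.zero_mem
  have hmax : IsLocalRing.maximalIdeal P' = I.map ι := by
    refine le_antisymm ?_ ?_
    · rw [← Localization.AtPrime.map_eq_maximalIdeal, Ideal.map_le_iff_le_comap]
      intro x hx
      haveI : Ring.KrullDimLE 0 (Localization.AtPrime p) := Ring.KrullDimLE.of_isLocalization p hp _
      have h0 : algebraMap B (Localization.AtPrime p) (φ x) = 0 := by
        have hnil : IsNilpotent (algebraMap B (Localization.AtPrime p) (φ x)) := by
          rw [← mem_nilradical, Ring.KrullDimLE.nilradical_eq_maximalIdeal (R := Localization.AtPrime p),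
            IsLocalization.AtPrime.to_map_mem_maximal_iff (Localization.AtPrime p) p]
          exact hx
        exact hnil.eq_zero
      obtain ⟨⟨t, ht⟩, htx⟩ := (IsLocalization.map_eq_zero_iff p.primeCompl (Localization.AtPrime p) _).mp h0
      obtain ⟨t, rfl⟩ := hφ t
      have h1 : t * x ∈ I := by
        show _ ∈ Ideal.span _
        rw [← hker, RingHom.mem_ker, map_mul]; exact htx
      have h2 := Ideal.mem_map_of_mem ι h1
      rw [map_mul] at h2
      exact (Ideal.unit_mul_mem_iff_mem _ (IsLocalization.map_units P' (⟨t, ht⟩ : Q.primeCompl))).mp h2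
    · rw [← Localization.AtPrime.map_eq_maximalIdeal]
      exact Ideal.map_mono hIQ
  let K := P' ⧸ IsLocalRing.maximalIdeal P'
  letI : Field K := Ideal.Quotient.field _
  haveI : Algebra.FormallySmooth k P' := inferInstance
  haveI : Algebra.EssFiniteType k P' := Algebra.EssFiniteType.comp k (MvPolynomial (Fin r) k) P'
  haveI : Algebra.EssFiniteType k K := Algebra.EssFiniteType.comp k P' K
  haveI : Algebra.FormallySmooth k K := Algebra.FormallySmooth.of_perfectField
  obtain ⟨l, hl⟩ := (Algebra.FormallySmooth.iff_split_injection (R := k) (P := P') (A := K)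
    Ideal.Quotient.mk_surjective).mp inferInstance
  have hmem : ι ξ ∈ RingHom.ker (algebraMap P' K) := by
    rw [Ideal.Quotient.algebraMap_eq, Ideal.mk_ker, hmax]
    exact Ideal.mem_map_of_mem _ (Ideal.sum_mem _ fun i _ => Ideal.mul_mem_left _ _ (Ideal.subset_span ⟨i, rfl⟩))
  have hD : KaehlerDifferential.kerCotangentToTensor k P' K (Ideal.toCotangent _ ⟨ι ξ, hmem⟩) = 0 := by
    rw [KaehlerDifferential.kerCotangentToTensor_toCotangent]
    show (1 : K) ⊗ₜ[P'] KaehlerDifferential.D k P' (ι ξ) = 0
    have h1 := derivation_eq_sum ((KaehlerDifferential.D k P').compAlgebraMap (MvPolynomial (Fin r) k)) ξ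
    simp only [Derivation.compAlgebraMap, Derivation.coe_mk', LinearMap.comp_apply] at h1
    erw [h1]
    rw [TensorProduct.tmul_sum]
    refine Finset.sum_eq_zero fun m _ => ?_
    rw [← algebraMap_smul P' (pderiv m ξ), TensorProduct.tmul_smul, TensorProduct.smul_tmul', Algebra.smul_def,
      show algebraMap P' K (ι (pderiv m ξ)) = 0 from by
        rw [Ideal.Quotient.algebraMap_eq, Ideal.Quotient.eq_zero_iff_mem, hmax]
        exact Ideal.mem_map_of_mem _ (hξ m),
      zero_mul, TensorProduct.zero_tmul]
  have h2 : Ideal.toCotangent _ ⟨ι ξ, hmem⟩ = 0 := by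
    have := LinearMap.congr_fun hl (Ideal.toCotangent _ ⟨ι ξ, hmem⟩)
    rw [LinearMap.comp_apply, hD, map_zero, LinearMap.id_apply] at this
    exact this.symm
  rw [Ideal.toCotangent_eq_zero] at h2
  replace h2 : ι ξ ∈ (I * I).map ι := by
    rw [Ideal.map_mul, ← sq, ← hmax]
    have e : RingHom.ker (algebraMap P' K) = IsLocalRing.maximalIdeal P' := Ideal.mk_ker
    have h3 : ι ξ ∈ RingHom.ker (algebraMap P' K) ^ 2 := h2
    rw [e] at h3
    exact h3
  obtain ⟨t, ht, htξ⟩ : ∃ t, t ∉ Q ∧ t * ξ ∈ I * I := by
    obtain ⟨⟨⟨y, hy⟩, ⟨s, hs⟩⟩, hys⟩ := (IsLocalization.mem_map_algebraMap_iff Q.primeCompl P').mp h2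
    rw [← map_mul] at hys
    obtain ⟨⟨u, hu⟩, huy⟩ := (IsLocalization.eq_iff_exists Q.primeCompl P').mp hys
    refine ⟨u * s, fun h => ((inferInstance : Q.IsPrime).mem_or_mem h).elim hu hs, ?_⟩
    have : u * s * ξ = u * y := by
      show _ = u * y
      rw [← huy]
      show u * s * ξ = u * (ξ * s)
      ring
    rw [this]
    exact Ideal.mul_mem_left _ _ hy
  obtain ⟨w, hwI, hw⟩ := (Submodule.mem_ideal_smul_span_iff_exists_sum I a (t * ξ)).mp htξ
  have hrel := coeff_mem_span hreg (fun i => t * zt i - w i) (by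
    rw [Finsupp.sum_fintype _ _ (by simp)] at hw
    simp only [sub_mul, Finset.sum_sub_distrib, mul_assoc, ← Finset.mul_sum]
    rw [sub_eq_zero]
    simpa [ξ] using hw.symm) i₀
  have htz : t * zt i₀ ∈ I := by simpa using I.add_mem hrel (hwI i₀)
  have h0 : φ t * z i₀ = 0 := by
    rw [← hzt, ← map_mul]
    exact RingHom.mem_ker.mp (show _ ∈ RingHom.ker φ.toRingHom by rw [hker]; exact htz)
  exact ((hp.1.1).mem_or_mem (h0 ▸ p.zero_mem : φ t * z i₀ ∈ p)).resolve_left ht

end Field

end Groth.Agent.FittExtLib
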