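import Mathlib
import Groth.Agent.ComplKaehlerLib.Basic
import Groth.Agent.FittExtLib.CI

/-! Presentation of the completed differentials of a quotient of restricted power series. -/

set_option autoImplicit false
set_option backward.isDefEq.respectTransparency false
set_option backward.isDefEq.respectTransparency.types false
set_option linter.style.haveILetI false

universe u

namespace Groth.Agent.FittExtLib

open MvPolynomial

variable {R : Type u} [CommRing R] {r c : ℕ} (t : R) {B : Type u} [CommRing B] [Algebra R B]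

/-- the restricted power series -/
abbrev RestPS (R : Type u) [CommRing R] (r : ℕ) (t : R) : Type u :=
  AdicCompletion (Ideal.span {MvPolynomial.C (σ := Fin r) t}) (MvPolynomial (Fin r) R)

theorem algebraMap_restPS (x : R) :
    algebraMap R (RestPS R r t) x = algebraMap (MvPolynomial (Fin r) R) (RestPS R r t) (C x) := by
  rw [IsScalarTower.algebraMap_apply R (MvPolynomial (Fin r) R) (RestPS R r t), algebraMap_eq]

theorem exists_approx (α : RestPS R r t) (n : ℕ) :
    ∃ p : MvPolynomial (Fin r) R, α - algebraMap _ _ p ∈ Ideal.span {algebraMap R (RestPS R r t) t ^ n} := by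
  obtain ⟨p, hp⟩ := Submodule.Quotient.mk_surjective _ (α.val n)
  refine ⟨p, ?_⟩
  have hfg : (Ideal.span {MvPolynomial.C (σ := Fin r) t}).FG := ⟨{C t}, by simp⟩
  have hmem : α - algebraMap (MvPolynomial (Fin r) R) _ p ∈
      (Ideal.span {MvPolynomial.C (σ := Fin r) t}) ^ n • (⊤ : Submodule (MvPolynomial (Fin r) R) (RestPS R r t)) := by
    rw [AdicCompletion.pow_smul_top_eq_ker_eval hfg, LinearMap.mem_ker, map_sub, sub_eq_zero]
    exact hp.symm
  rw [Ideal.smul_top_eq_map, Submodule.restrictScalars_mem, Ideal.span_singleton_pow, Ideal.map_span, Set.image_singleton,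
    map_pow, ← algebraMap_restPS] at hmem
  exact hmem

theorem mem_of_algebraMap_mem {p : MvPolynomial (Fin r) R} {n : ℕ}
    (hp : algebraMap _ (RestPS R r t) p ∈ Ideal.span {algebraMap R (RestPS R r t) t ^ n}) :
    p ∈ Ideal.span {(C t : MvPolynomial (Fin r) R) ^ n} := by
  rw [← Ideal.span_singleton_pow, ← Ideal.Quotient.eq_zero_iff_mem, ← Ideal.Quotient.algebraMap_eq,
    ← AlgHom.commutes (AdicCompletion.evalₐ (Ideal.span {MvPolynomial.C (σ := Fin r) t}) n) p]
  obtain ⟨q, hq⟩ := Ideal.mem_span_singleton'.mp hp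
  rw [← hq, map_mul, map_pow, algebraMap_restPS, AlgHom.commutes, ← map_pow, Ideal.Quotient.algebraMap_eq]
  rw [show Ideal.Quotient.mk (Ideal.span {MvPolynomial.C (σ := Fin r) t} ^ n) (C t ^ n) = 0 from
    Ideal.Quotient.eq_zero_iff_mem.mpr (Ideal.pow_mem_pow (Ideal.mem_span_singleton_self _) _), mul_zero]

variable {t} (ψ : RestPS R r t →ₐ[R] B) (a : Fin c → RestPS R r t)

/-- the polynomial chart -/
noncomputable def chart : MvPolynomial (Fin r) R →ₐ[R] B :=
  ψ.comp ((Algebra.ofId (MvPolynomial (Fin r) R) (RestPS R r t)).restrictScalars R)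

theorem chart_apply (p : MvPolynomial (Fin r) R) : chart ψ p = ψ (algebraMap _ _ p) := rfl

/-- polynomial approximations of the equations -/
noncomputable def approx (n : ℕ) : Fin c → MvPolynomial (Fin r) R := fun i => (exists_approx t (a i) n).choose

theorem approx_spec (n : ℕ) (i : Fin c) :
    a i - algebraMap _ _ (approx a n i) ∈ Ideal.span {algebraMap R (RestPS R r t) t ^ n} :=
  (exists_approx t (a i) n).choose_spec

theorem pderiv_mem {p : MvPolynomial (Fin r) R} {n : ℕ} (m : Fin r)
    (hp : p ∈ Ideal.span {(C t : MvPolynomial (Fin r) R) ^ n}) :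
    pderiv m p ∈ Ideal.span {(C t : MvPolynomial (Fin r) R) ^ n} := by
  obtain ⟨q, rfl⟩ := Ideal.mem_span_singleton'.mp hp
  rw [← map_pow, mul_comm, pderiv_C_mul]
  exact Ideal.mul_mem_right _ _ (Ideal.mem_span_singleton_self _)

theorem chart_mem {p : MvPolynomial (Fin r) R} {n : ℕ} (hp : p ∈ Ideal.span {(C t : MvPolynomial (Fin r) R) ^ n}) :
    chart ψ p ∈ Ideal.span {algebraMap R B t ^ n} := by
  obtain ⟨q, rfl⟩ := Ideal.mem_span_singleton'.mp hp
  rw [map_mul, map_pow, ← algebraMap_eq, AlgHom.commutes]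
  exact Ideal.mul_mem_left _ _ (Ideal.mem_span_singleton_self _)

theorem map_mem {α : RestPS R r t} {n : ℕ} (h : α ∈ Ideal.span {algebraMap R (RestPS R r t) t ^ n}) :
    ψ α ∈ Ideal.span {algebraMap R B t ^ n} := by
  obtain ⟨q, rfl⟩ := Ideal.mem_span_singleton'.mp h
  rw [map_mul, map_pow, AlgHom.commutes]
  exact Ideal.mul_mem_left _ _ (Ideal.mem_span_singleton_self _)

theorem exists_jacobian [IsAdicComplete (Ideal.span {algebraMap R B t}) B] :
    ∃ J : Fin c → Fin r → B, ∀ n i m,
      J i m - chart ψ (pderiv m (approx a n i)) ∈ Ideal.span {algebraMap R B t ^ n} := by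
  have key : ∀ i m, ∃ L : B, ∀ n, chart ψ (pderiv m (approx a n i)) ≡ L
      [SMOD (Ideal.span {algebraMap R B t} ^ n • ⊤ : Submodule B B)] := fun i m => by
    refine IsPrecomplete.prec' _ fun {n n'} hn => ?_
    rw [SModEq.sub_mem, smul_eq_mul, Ideal.mul_top, Ideal.span_singleton_pow, ← map_sub, ← map_sub]
    refine chart_mem ψ (pderiv_mem m (mem_of_algebraMap_mem t ?_))
    rw [map_sub]
    have h1 : a i - algebraMap _ _ (approx a n' i) ∈ Ideal.span {algebraMap R (RestPS R r t) t ^ n} :=
      Ideal.span_singleton_le_span_singleton.mpr (pow_dvd_pow _ hn) (approx_spec a n' i)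
    have h2 := Ideal.sub_mem _ h1 (approx_spec a n i)
    rwa [sub_sub_sub_cancel_left] at h2
  choose L hL using key
  refine ⟨L, fun n i m => ?_⟩
  have h := (hL i m n).symm
  rwa [SModEq.sub_mem, smul_eq_mul, Ideal.mul_top, Ideal.span_singleton_pow] at h

variable {ψ a}

/-- the level `n` algebra map -/
noncomputable def lev (ψ : RestPS R r t →ₐ[R] B) (n : ℕ) :
    MvPolynomial (Fin r) R →ₐ[R] B ⧸ Ideal.span {algebraMap R B t ^ n} :=
  (Ideal.Quotient.mkₐ R _).comp (chart ψ)

theorem lev_apply (n : ℕ) (p : MvPolynomial (Fin r) R) : lev ψ n p = Ideal.Quotient.mk _ (chart ψ p) := rfl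

variable (hψ : Function.Surjective ψ) (hker : RingHom.ker ψ.toRingHom = Ideal.span (Set.range a))

include hψ in
theorem lev_surjective (n : ℕ) : Function.Surjective (lev ψ n) := fun b => by
  obtain ⟨b, rfl⟩ := Ideal.Quotient.mk_surjective b
  obtain ⟨α, rfl⟩ := hψ b
  obtain ⟨p, hp⟩ := exists_approx t α n
  refine ⟨p, (Ideal.Quotient.eq.mpr ?_).symm⟩
  show ψ α - ψ (algebraMap _ _ p) ∈ _
  rw [← map_sub]
  exact map_mem ψ hp

include hψ hker in
theorem ker_lev (n : ℕ) : RingHom.ker (lev ψ n).toRingHom =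
    Ideal.span (Set.range (Fin.cons ((C t) ^ n) (approx a n) : Fin (c + 1) → MvPolynomial (Fin r) R)) := by
  refine le_antisymm (fun p hp => ?_) (Ideal.span_le.mpr ?_)
  · have hp' : chart ψ p ∈ Ideal.span {algebraMap R B t ^ n} := Ideal.Quotient.eq_zero_iff_mem.mp hp
    obtain ⟨β, hβ⟩ := Ideal.mem_span_singleton'.mp hp'
    obtain ⟨γ, rfl⟩ := hψ β
    have h0 : algebraMap _ _ p - γ * algebraMap R (RestPS R r t) t ^ n ∈ RingHom.ker ψ.toRingHom := by
      rw [RingHom.mem_ker]
      show ψ _ = 0
      rw [map_sub, map_mul, map_pow, AlgHom.commutes, ← chart_apply, hβ, sub_self]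
    rw [hker] at h0
    obtain ⟨g, hg⟩ := Ideal.mem_span_range_iff_exists_fun.mp h0
    choose q hq using fun i => exists_approx t (g i) n
    have h1 : algebraMap _ (RestPS R r t) (p - ∑ i, q i * approx a n i) ∈ Ideal.span {algebraMap R (RestPS R r t) t ^ n} := by
      rw [map_sub, map_sum, eq_add_of_sub_eq hg.symm, add_sub_right_comm, ← Finset.sum_sub_distrib]
      refine Ideal.add_mem _ (Ideal.sum_mem _ fun i _ => ?_) (Ideal.mul_mem_left _ _ (Ideal.mem_span_singleton_self _))
      rw [map_mul, show g i * a i - algebraMap _ _ (q i) * algebraMap _ _ (approx a n i) =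
        (g i - algebraMap _ _ (q i)) * a i + algebraMap _ _ (q i) * (a i - algebraMap _ _ (approx a n i)) by ring]
      exact Ideal.add_mem _ (Ideal.mul_mem_right _ _ (hq i)) (Ideal.mul_mem_left _ _ (approx_spec a n i))
    rw [show p = (p - ∑ i, q i * approx a n i) + ∑ i, q i * approx a n i by ring, Fin.range_cons]
    refine Ideal.add_mem _ ?_ (Ideal.sum_mem _ fun i _ => Ideal.mul_mem_left _ _ (Ideal.subset_span (Or.inr ⟨i, rfl⟩)))
    exact Ideal.span_mono (Set.singleton_subset_iff.mpr (Set.mem_insert _ _)) (mem_of_algebraMap_mem t h1)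
  · rw [Fin.range_cons, Set.insert_subset_iff]
    refine ⟨Ideal.Quotient.eq_zero_iff_mem.mpr (chart_mem ψ (Ideal.mem_span_singleton_self _)), ?_⟩
    rintro _ ⟨i, rfl⟩
    refine Ideal.Quotient.eq_zero_iff_mem.mpr ?_
    have hai : ψ (a i) = 0 := RingHom.mem_ker.mp
      (show a i ∈ RingHom.ker ψ.toRingHom by rw [hker]; exact Ideal.subset_span ⟨i, rfl⟩)
    have h1 := map_mem ψ (approx_spec a n i)
    rw [map_sub, hai, zero_sub, neg_mem_iff] at h1
    exact h1

section Pres

variable {J : Fin c → Fin r → B}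
  (hJ : ∀ n i m, J i m - chart ψ (pderiv m (approx a n i)) ∈ Ideal.span {algebraMap R B t ^ n})

/-- the reduced Jacobian -/
noncomputable def redJac (J : Fin c → Fin r → B) (n : ℕ) :
    Fin c → Fin r → B ⧸ Ideal.span {algebraMap R B t ^ n} :=
  fun i m => Ideal.Quotient.mk _ (J i m)

include hJ in
theorem jac_approx (n : ℕ) : jac (lev ψ n) (approx a n) = redJac (t := t) J n := by
  funext i m
  exact (Ideal.Quotient.eq.mpr (hJ n i m)).symm

include hψ hker hJ in
theorem level_rel_iff (n : ℕ) (z : Fin r → B ⧸ Ideal.span {algebraMap R B t ^ n}) :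
    ∑ m, z m • dgen (lev ψ n) m = 0 ↔ z ∈ Submodule.span (B ⧸ Ideal.span {algebraMap R B t ^ n}) (Set.range (redJac (t := t) J n)) := by
  rw [rel_iff (lev_surjective hψ n) (ker_lev hψ hker n) z]
  have h0 : jac (lev ψ n) (Fin.cons ((C t) ^ n) (approx a n)) =
      Fin.cons 0 (redJac (t := t) J n) := by
    funext i
    refine Fin.cases ?_ (fun j => ?_) i
    · rw [Fin.cons_zero]; funext m; show lev ψ n (pderiv m _) = 0; rw [Fin.cons_zero, show (C t : MvPolynomial (Fin r) R) ^ n = C (t ^ n) from (map_pow _ _ _).symm, pderiv_C, map_zero]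
    · rw [Fin.cons_succ, ← jac_approx hJ n]; funext m; simp [jac]
  rw [h0, Fin.range_cons, Submodule.span_insert_zero]

/-- the map presenting the differentials -/
noncomputable def pres (ψ : RestPS R r t →ₐ[R] B) : (Fin r → B) →ₗ[B] Ω[B⁄R] :=
  Fintype.linearCombination B (dgen (chart ψ))

include hψ hker hJ in
theorem pres_mem_iff (n : ℕ) (z : Fin r → B) :
    pres ψ z ∈ (Ideal.span {algebraMap R B t} ^ n • ⊤ : Submodule B Ω[B⁄R]) ↔
      z ∈ Submodule.span B (Set.range J) ⊔ (Ideal.span {algebraMap R B t} ^ n • ⊤ : Submodule B (Fin r → B)) := by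
  classical
  rw [Ideal.span_singleton_pow]
  let T := algebraMap R B t ^ n
  let Bn := B ⧸ Ideal.span {T}
  have hT : ∀ ω : Ω[Bn⁄R], ∀ b ∈ Ideal.span {T}, b • ω = 0 := fun ω b hb => by
    rw [← algebraMap_smul Bn b ω, Ideal.Quotient.algebraMap_eq, Ideal.Quotient.eq_zero_iff_mem.mpr hb, zero_smul]
  constructor
  · intro h
    have h0 : ∀ ω ∈ (Ideal.span {T} • ⊤ : Submodule B Ω[B⁄R]), KaehlerDifferential.map R R B Bn ω = 0 := fun ω hω =>
      Submodule.smul_induction_on hω (fun b hb y _ => by rw [map_smul]; exact hT _ b hb)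
        fun x y hx hy => by rw [map_add, hx, hy, add_zero]
    have h1 : ∑ m, (Ideal.Quotient.mk (Ideal.span {T}) (z m)) • dgen (lev ψ n) m = 0 := by
      rw [← h0 _ h, pres, Fintype.linearCombination_apply, map_sum]
      refine Finset.sum_congr rfl fun m _ => ?_
      rw [map_smul, dgen, dgen, KaehlerDifferential.map_D, ← algebraMap_smul Bn (z m)]
      rfl
    obtain ⟨w, hw⟩ := (Submodule.mem_span_range_iff_exists_fun _).mp
      ((level_rel_iff hψ hker hJ n fun m => Ideal.Quotient.mk _ (z m)).mp h1)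
    choose w' hw' using fun i => Ideal.Quotient.mk_surjective (w i)
    rw [show z = ∑ i, w' i • J i + (z - ∑ i, w' i • J i) by abel]
    refine Submodule.add_mem_sup (Submodule.sum_mem _ fun i _ => Submodule.smul_mem _ _ (Submodule.subset_span ⟨i, rfl⟩)) ?_
    have hd : ∀ m, (z - ∑ i, w' i • J i) m ∈ Ideal.span {T} := fun m => by
      refine Ideal.Quotient.eq_zero_iff_mem.mp ?_
      have := congrFun hw m
      simp only [redJac, Finset.sum_apply, Pi.smul_apply, smul_eq_mul, ← hw'] at this
      simp [Finset.sum_apply, this, T]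
    rw [pi_eq_sum_univ' (z - ∑ i, w' i • J i)]
    exact Submodule.sum_mem _ fun m _ => Submodule.smul_mem_smul (hd m) Submodule.mem_top
  · intro h
    obtain ⟨y, hy, e, he, rfl⟩ := Submodule.mem_sup.mp h
    rw [map_add]
    refine Submodule.add_mem _ ?_ ?_
    · clear h
      induction hy using Submodule.span_induction with
      | mem v hv =>
        obtain ⟨i, rfl⟩ := hv
        have h2 : pres ψ (J i) = KaehlerDifferential.D R B (chart ψ (approx a n i)) +
            ∑ m, (J i m - chart ψ (pderiv m (approx a n i))) • dgen (chart ψ) m := by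
          rw [pres, Fintype.linearCombination_apply, D_map]
          simp [sub_smul]
        rw [h2]
        refine Submodule.add_mem _ ?_ (Submodule.sum_mem _ fun m _ => Submodule.smul_mem_smul (hJ n i m) Submodule.mem_top)
        have hai : ψ (a i) = 0 := RingHom.mem_ker.mp
          (show a i ∈ RingHom.ker ψ.toRingHom by rw [hker]; exact Ideal.subset_span ⟨i, rfl⟩)
        have h3 := map_mem ψ (approx_spec a n i)
        rw [map_sub, hai, zero_sub, neg_mem_iff, ← chart_apply] at h3
        obtain ⟨b, hb⟩ := Ideal.mem_span_singleton'.mp h3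
        rw [← hb, Derivation.leibniz, ← map_pow, Derivation.map_algebraMap, smul_zero, zero_add, map_pow]
        exact Submodule.smul_mem_smul (Ideal.mem_span_singleton_self _) Submodule.mem_top
      | zero => rw [map_zero]; exact Submodule.zero_mem _
      | add u v _ _ hu hv => rw [map_add]; exact Submodule.add_mem _ hu hv
      | smul b v _ hv => rw [map_smul]; exact Submodule.smul_mem _ _ hv
    · have := Submodule.mem_map_of_mem (f := pres ψ) he
      rw [Submodule.map_smul''] at this
      exact Submodule.smul_mono le_rfl le_top this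

include hψ in
theorem range_pres_sup : LinearMap.range (pres ψ) ⊔ (Ideal.span {algebraMap R B t} • ⊤ : Submodule B Ω[B⁄R]) = ⊤ := by
  refine eq_top_iff.mpr ((KaehlerDifferential.span_range_derivation R B).ge.trans (Submodule.span_le.mpr ?_))
  rintro _ ⟨b, rfl⟩
  obtain ⟨α, rfl⟩ := hψ b
  obtain ⟨p, hp⟩ := exists_approx t α 1
  rw [show ψ α = chart ψ p + ψ (α - algebraMap _ _ p) by rw [chart_apply, map_sub]; ring, SetLike.mem_coe, map_add]
  refine Submodule.add_mem_sup ?_ ?_
  · rw [D_map, pres, Fintype.range_linearCombination]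
    exact Submodule.sum_mem _ fun m _ => Submodule.smul_mem _ _ (Submodule.subset_span ⟨m, rfl⟩)
  · have h1 := map_mem ψ hp
    rw [pow_one] at h1
    obtain ⟨b, hb⟩ := Ideal.mem_span_singleton'.mp h1
    rw [← hb, Derivation.leibniz, Derivation.map_algebraMap, smul_zero, zero_add]
    exact Submodule.smul_mem_smul (Ideal.mem_span_singleton_self _) Submodule.mem_top

variable (ψ) in
/-- generators of the completed differentials -/
noncomputable def cgen : Fin r → AdicCompletion (Ideal.span {algebraMap R B t}) Ω[B⁄R] :=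
  fun m => AdicCompletion.of _ _ (dgen (chart ψ) m)

include hψ in
theorem span_cgen [IsAdicComplete (Ideal.span {algebraMap R B t}) B] :
    Submodule.span B (Set.range (cgen ψ)) = ⊤ := by
  classical
  refine eq_top_iff.mpr fun v _ => ?_
  obtain ⟨w, rfl⟩ := ComplKaehlerLib.map_surjective_of_sup_eq_top _ (pres ψ) (range_pres_sup hψ) v
  obtain ⟨z, rfl⟩ := (ComplKaehlerLib.of_pi_bijective _ r).2 w
  refine (Submodule.mem_span_range_iff_exists_fun B).mpr ⟨z, ?_⟩
  rw [AdicCompletion.map_of, pres, Fintype.linearCombination_apply, map_sum]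
  simp [cgen]

include hψ hker hJ in
theorem cgen_rel_iff [IsAdicComplete (Ideal.span {algebraMap R B t}) B] [IsNoetherianRing B] (z : Fin r → B) :
    ∑ m, z m • cgen ψ m = 0 ↔ z ∈ Submodule.span B (Set.range J) := by
  let I := Ideal.span {algebraMap R B t}
  have h1 : ∑ m, z m • cgen ψ m = AdicCompletion.of I _ (pres ψ z) := by
    rw [pres, Fintype.linearCombination_apply, map_sum]
    simp [cgen, I]
  rw [h1]
  have h2 : AdicCompletion.of I Ω[B⁄R] (pres ψ z) = 0 ↔ ∀ n, pres ψ z ∈ (I ^ n • ⊤ : Submodule B Ω[B⁄R]) := by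
    rw [AdicCompletion.ext_iff]
    refine forall_congr' fun n => ?_
    rw [AdicCompletion.of_apply]
    exact Submodule.Quotient.mk_eq_zero _
  rw [h2]
  refine ⟨fun h => ?_, fun h n => (pres_mem_iff hψ hker hJ n z).mpr (Submodule.mem_sup_left h)⟩
  let N := Submodule.span B (Set.range J)
  have hz : Submodule.Quotient.mk (p := N) z ∈ (⨅ n, I ^ n • ⊤ : Submodule B ((Fin r → B) ⧸ N)) := by
    refine Submodule.mem_iInf _ |>.mpr fun n => ?_
    obtain ⟨y, hy, e, he, hye⟩ := Submodule.mem_sup.mp ((pres_mem_iff hψ hker hJ n z).mp (h n))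
    rw [← hye, Submodule.Quotient.mk_add, (Submodule.Quotient.mk_eq_zero _).mpr hy, zero_add]
    have := Submodule.mem_map_of_mem (f := N.mkQ) he
    rw [Submodule.map_smul''] at this
    exact Submodule.smul_mono le_rfl le_top this
  rw [Ideal.iInf_pow_smul_eq_bot_of_le_jacobson _ (IsAdicComplete.le_jacobson_bot I), Submodule.mem_bot,
    Submodule.Quotient.mk_eq_zero] at hz
  exact hz

include hJ in
theorem coeff_mem (hreg : IsSMulRegular B (algebraMap R B t))
    (h0 : LinearIndependent (B ⧸ Ideal.span {algebraMap R B t ^ 1}) (jac (lev ψ 1) (approx a 1))) (n : ℕ) (z : Fin c → B)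
    (hz : ∀ m, (∑ i, z i • J i) m ∈ Ideal.span {algebraMap R B t ^ n}) (i : Fin c) :
    z i ∈ Ideal.span {algebraMap R B t ^ n} := by
  induction n generalizing z with
  | zero => simp
  | succ n ih =>
    rw [jac_approx hJ 1, Fintype.linearIndependent_iff] at h0
    have h1 : ∀ i, z i ∈ Ideal.span {algebraMap R B t} := fun i => by
      have h2 := h0 (fun i => Ideal.Quotient.mk _ (z i)) (funext fun m => by
        have hzm : (∑ i, z i • J i) m ∈ Ideal.span {algebraMap R B t ^ 1} :=
          Ideal.span_singleton_le_span_singleton.mpr (pow_dvd_pow _ (by omega)) (hz m)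
        rw [← Ideal.Quotient.eq_zero_iff_mem] at hzm
        simp only [redJac, Finset.sum_apply, Pi.smul_apply, smul_eq_mul, Pi.zero_apply, map_sum, map_mul] at hzm ⊢
        exact hzm) i
      have h3 := Ideal.Quotient.eq_zero_iff_mem.mp h2
      rwa [pow_one] at h3
    choose z' hz' using fun i => Ideal.mem_span_singleton'.mp (h1 i)
    have h4 : ∀ m, (∑ i, z' i • J i) m ∈ Ideal.span {algebraMap R B t ^ n} := fun m => by
      obtain ⟨b, hb⟩ := Ideal.mem_span_singleton'.mp (hz m)
      refine Ideal.mem_span_singleton'.mpr ⟨b, hreg ?_⟩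
      simp only [smul_eq_mul]
      rw [show algebraMap R B t * (b * algebraMap R B t ^ n) = b * algebraMap R B t ^ (n + 1) by ring, hb]
      simp [Finset.sum_apply, ← hz', Finset.mul_sum, mul_assoc, mul_comm, mul_left_comm]
    obtain ⟨b, hb⟩ := Ideal.mem_span_singleton'.mp (ih z' h4)
    exact Ideal.mem_span_singleton'.mpr ⟨b, by rw [← hz' i, ← hb]; ring⟩

include hJ in
theorem linearIndependent_jacobian (hreg : IsSMulRegular B (algebraMap R B t))
    [IsAdicComplete (Ideal.span {algebraMap R B t}) B]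
    (h0 : LinearIndependent (B ⧸ Ideal.span {algebraMap R B t ^ 1}) (jac (lev ψ 1) (approx a 1))) : LinearIndependent B J := by
  rw [Fintype.linearIndependent_iff]
  intro z hz i
  refine IsHausdorff.haus' (I := Ideal.span {algebraMap R B t}) _ fun n => ?_
  rw [SModEq.zero, smul_eq_mul, Ideal.mul_top, Ideal.span_singleton_pow]
  exact coeff_mem hJ hreg h0 n z (fun m => by rw [hz]; exact Ideal.zero_mem _) i

include hJ in
theorem linearIndependent_redJac (hreg : IsSMulRegular B (algebraMap R B t))
    (h0 : LinearIndependent (B ⧸ Ideal.span {algebraMap R B t ^ 1}) (jac (lev ψ 1) (approx a 1))) (n : ℕ) :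
    LinearIndependent (B ⧸ Ideal.span {algebraMap R B t ^ n}) (redJac (t := t) J n) := by
  rw [Fintype.linearIndependent_iff]
  intro z hz i
  choose z' hz' using fun i => Ideal.Quotient.mk_surjective (z i)
  rw [← hz', Ideal.Quotient.eq_zero_iff_mem]
  refine coeff_mem hJ hreg h0 n z' (fun m => ?_) i
  rw [← Ideal.Quotient.eq_zero_iff_mem]
  have := congrFun hz m
  simpa [redJac, ← hz', Finset.sum_apply] using this

end Pres

end Groth.Agent.FittExtLib
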