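import Mathlib
import Groth.Prelude.Def_Fitting
import Groth.Agent.FittLib.Minor
import Groth.Agent.CauchyBinetLib.Basic
import Groth.Agent.S12269

/-! A module with a presentation by an injective matrix: its first `Ext` into the ring is the cokernel
of the transposed matrix and the two Fitting ideals of maximal minors agree. -/

set_option autoImplicit false
set_option linter.style.haveILetI false

universe u

namespace Groth.Agent.FittExtLib

open Matrix

variable {B : Type u} [CommRing B] {r c : ℕ}

/-- The column span of a matrix with rows `J i`. -/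
def colSpan (J : Fin c → Fin r → B) : Submodule B (Fin c → B) :=
  Submodule.span B (Set.range fun m i => J i m)

variable {M : Type u} [AddCommGroup M] [Module B M] {J : Fin c → Fin r → B} {x : Fin r → M}

theorem mem_span_range_iff_sum {n : ℕ} {V : Type u} [AddCommGroup V] [Module B V] (v : Fin n → V) (z : V) :
    z ∈ Submodule.span B (Set.range v) ↔ ∃ w : Fin n → B, ∑ i, w i • v i = z :=
  Submodule.mem_span_range_iff_exists_fun B

theorem nonempty_ext_equiv (hx : Submodule.span B (Set.range x) = ⊤)
    (hrel : ∀ z : Fin r → B, ∑ m, z m • x m = 0 ↔ z ∈ Submodule.span B (Set.range J))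
    (hinj : LinearIndependent B J) :
    Nonempty (((Fin c → B) ⧸ colSpan J) ≃ₗ[B]
      CategoryTheory.Abelian.Ext (ModuleCat.of B M) (ModuleCat.of B B) 1) := by
  classical
  let d : (Fin c → B) →ₗ[B] (Fin r → B) := Fintype.linearCombination B J
  let t : (Fin r → B) →ₗ[B] M := Fintype.linearCombination B x
  have ht : Function.Surjective t := by
    rw [← LinearMap.range_eq_top, Fintype.range_linearCombination, hx]
  have hd : ∀ z, z ∈ LinearMap.range d ↔ t z = 0 := fun z => by
    rw [Fintype.range_linearCombination, ← hrel]; rfl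
  have hker : LinearMap.ker d = ⊥ :=
    LinearMap.ker_eq_bot_of_injective (linearIndependent_iff_injective_fintypeLinearCombination.mp hinj)
  obtain ⟨e⟩ := S12269.nonempty_equiv_of_exact d t ht (fun z => (hd _).mp ⟨z, rfl⟩) (fun z hz => (hd z).mpr hz)
    (fun φ => by rw [hker]; exact bot_le)
  let ev : ((Fin c → B) →ₗ[B] B) ≃ₗ[B] (Fin c → B) := ((Pi.basisFun B (Fin c)).constr B).symm
  have hev : ∀ φ i, ev φ i = φ (Pi.single i 1) := fun φ i => by
    show φ (Pi.basisFun B (Fin c) i) = _
    rw [Pi.basisFun_apply]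
  have hmap : (LinearMap.range (LinearMap.lcomp B B d)).map
      (ev : ((Fin c → B) →ₗ[B] B) →ₗ[B] (Fin c → B)) = colSpan J := by
    have hg : ∀ g : (Fin r → B) →ₗ[B] B, ev (g ∘ₗ d) = ∑ m, g (Pi.single m 1) • fun i => J i m := by
      intro g
      funext i
      rw [hev, LinearMap.comp_apply, Finset.sum_apply]
      show g (Fintype.linearCombination B J (Pi.single i 1)) = _
      rw [Fintype.linearCombination_apply_single, one_smul]
      conv_lhs => rw [pi_eq_sum_univ' (J i)]
      simp only [map_sum, map_smul, Pi.smul_apply, smul_eq_mul, mul_comm]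
    refine le_antisymm ?_ (Submodule.span_le.mpr ?_)
    · rintro _ ⟨_, ⟨g, rfl⟩, rfl⟩
      show ev (g ∘ₗ d) ∈ colSpan J
      rw [hg]
      exact Submodule.sum_mem _ fun m _ => Submodule.smul_mem _ _ (Submodule.subset_span ⟨m, rfl⟩)
    · rintro _ ⟨m, rfl⟩
      refine ⟨_, ⟨LinearMap.proj m, rfl⟩, ?_⟩
      show ev (LinearMap.proj m ∘ₗ d) = _
      rw [hg]
      simp [Pi.single_apply]
  exact ⟨(Submodule.Quotient.equiv _ _ ev hmap).symm.trans e⟩

theorem ideal_eq_of_equiv {N N' : Type u} [AddCommGroup N] [Module B N] [AddCommGroup N'] [Module B N']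
    (e : N ≃ₗ[B] N') {n : ℕ} (y : Fin n → N) (hy : Submodule.span B (Set.range y) = ⊤) (k : ℕ) :
    Fitt.ideal B N k = Fitt.ideal B N' k := by
  have hy' : Submodule.span B (Set.range fun i => e (y i)) = ⊤ := by
    rw [Set.range_comp' e y, ← e.coe_coe, Submodule.span_image, hy, Submodule.map_top, LinearMap.range_eq_top]
    exact e.surjective
  rw [FittLib.ideal_eq_minors y hy, FittLib.ideal_eq_minors _ hy']
  refine congrArg Ideal.span (Set.ext fun d => ?_)
  simp only [← map_smul, ← map_sum, LinearEquiv.map_eq_zero_iff]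

/-- the ideal of maximal minors -/
def minorIdeal (J : Fin c → Fin r → B) : Ideal B :=
  Ideal.span (Set.range fun e : Fin c → Fin r => (Matrix.of fun a b => J b (e a)).det)

theorem ideal_top_minors (hx : Submodule.span B (Set.range x) = ⊤)
    (hrel : ∀ z : Fin r → B, ∑ m, z m • x m = 0 ↔ z ∈ Submodule.span B (Set.range J)) (hcr : c ≤ r) :
    Fitt.ideal B M (r - c) = minorIdeal J := by
  rw [FittLib.ideal_eq_minors x hx (r - c), show r - (r - c) = c by omega]
  refine le_antisymm (Ideal.span_le.mpr ?_) (Ideal.span_le.mpr ?_)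
  · rintro _ ⟨z, e, hz, rfl⟩
    choose w hw using fun b => (mem_span_range_iff_sum J (z b)).mp ((hrel _).mp (hz b))
    have hm : (Matrix.of fun a b => z b (e a)) =
        (Matrix.of fun a b => J b (e a)) * (Matrix.of fun i b => w b i) := by
      ext a b
      rw [Matrix.mul_apply, Matrix.of_apply, ← hw b, Finset.sum_apply]
      exact Finset.sum_congr rfl fun i _ => by simp [mul_comm]
    rw [SetLike.mem_coe, hm, Matrix.det_mul]
    exact Ideal.mul_mem_right _ _ (Ideal.subset_span ⟨e, rfl⟩)
  · rintro _ ⟨e, rfl⟩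
    exact Ideal.subset_span ⟨J, e, fun b => (hrel _).mpr (Submodule.subset_span ⟨b, rfl⟩), rfl⟩

theorem ideal_zero_colSpan (J : Fin c → Fin r → B) :
    Fitt.ideal B ((Fin c → B) ⧸ colSpan J) 0 = minorIdeal J := by
  classical
  let y : Fin c → (Fin c → B) ⧸ colSpan J := fun i => Submodule.Quotient.mk (Pi.single i 1)
  have hsum : ∀ z : Fin c → B, ∑ i, z i • y i = Submodule.Quotient.mk z := fun z => by
    conv_rhs => rw [pi_eq_sum_univ' z]
    rw [← Submodule.mkQ_apply, map_sum]
    simp only [map_smul, Submodule.mkQ_apply]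
    rfl
  have hy : Submodule.span B (Set.range y) = ⊤ := by
    refine eq_top_iff.mpr fun v _ => ?_
    obtain ⟨z, rfl⟩ := Submodule.Quotient.mk_surjective _ v
    exact (mem_span_range_iff_sum y _).mpr ⟨z, hsum z⟩
  rw [FittLib.ideal_eq_minors y hy 0]
  simp only [Nat.sub_zero]
  refine le_antisymm (Ideal.span_le.mpr ?_) (Ideal.span_le.mpr ?_)
  · rintro _ ⟨z, e, hz, rfl⟩
    have hz' : ∀ b, z b ∈ colSpan J := fun b => by
      rw [← Submodule.Quotient.mk_eq_zero, ← hsum, hz]
    choose w hw using fun b => (mem_span_range_iff_sum (fun m i => J i m) (z b)).mp (hz' b)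
    have hm : (Matrix.of fun a b => z b (e a)) =
        ((1 : Matrix (Fin c) (Fin c) B).submatrix e id) * ((Matrix.of fun i m => J i m) * (Matrix.of fun m b => w b m)) := by
      ext a b
      simp only [Matrix.mul_apply, Matrix.submatrix_apply, Matrix.one_apply, Matrix.of_apply, id, ite_mul, one_mul,
        zero_mul, Finset.sum_ite_eq, Finset.mem_univ, if_true]
      rw [← hw b, Finset.sum_apply]
      exact Finset.sum_congr rfl fun i _ => by simp [mul_comm]
    rw [SetLike.mem_coe, hm, Matrix.det_mul, CauchyBinetLib.det_mul_eq_sum, Finset.mul_sum]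
    refine Ideal.sum_mem _ fun s _ => Ideal.mul_mem_left _ _ (Ideal.mul_mem_right _ _ ?_)
    rw [← Matrix.det_transpose]
    exact Ideal.subset_span ⟨s.1.orderEmbOfFin s.2, rfl⟩
  · rintro _ ⟨e, rfl⟩
    refine Ideal.subset_span ⟨fun b i => J i (e b), id, fun b => ?_, ?_⟩
    · rw [hsum, Submodule.Quotient.mk_eq_zero]
      exact Submodule.subset_span ⟨e b, rfl⟩
    · rw [← Matrix.det_transpose]; rfl

theorem ideal_eq_ext (hx : Submodule.span B (Set.range x) = ⊤)
    (hrel : ∀ z : Fin r → B, ∑ m, z m • x m = 0 ↔ z ∈ Submodule.span B (Set.range J))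
    (hinj : LinearIndependent B J) (hcr : c ≤ r) :
    Fitt.ideal B M (r - c) =
      Fitt.ideal B (CategoryTheory.Abelian.Ext (ModuleCat.of B M) (ModuleCat.of B B) 1) 0 := by
  obtain ⟨e⟩ := nonempty_ext_equiv hx hrel hinj
  rw [ideal_top_minors hx hrel hcr, ← ideal_zero_colSpan J]
  exact ideal_eq_of_equiv e (fun i => Submodule.Quotient.mk (Pi.single i 1)) (eq_top_iff.mpr fun v _ => by
    classical
    obtain ⟨z, rfl⟩ := Submodule.Quotient.mk_surjective _ v
    refine (mem_span_range_iff_sum _ _).mpr ⟨z, ?_⟩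
    conv_rhs => rw [pi_eq_sum_univ' z]
    rw [← Submodule.mkQ_apply, map_sum]
    simp only [map_smul, Submodule.mkQ_apply]
    ) 0

end Groth.Agent.FittExtLib
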