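import Mathlib
import Groth.Agent.FittExtLib.Core
import Groth.Agent.FittLib.BaseChange
import Groth.Agent.FittExtLib.CI
import Groth.Agent.FittExtLib.Completed

/-! The closed fibre of a quotient of restricted power series over `k[[t]]`, and base change of cokernels. -/

set_option autoImplicit false
set_option backward.isDefEq.respectTransparency false
set_option backward.isDefEq.respectTransparency.types false
set_option linter.style.haveILetI false

universe u

namespace Groth.Agent.FittExtLib

open MvPolynomial TensorProduct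

section Coker

variable {B : Type u} [CommRing B] {r c : ℕ} (J : Fin c → Fin r → B) (I : Ideal B)

theorem nonempty_baseChange_coker :
    Nonempty ((B ⧸ I) ⊗[B] ((Fin c → B) ⧸ colSpan J) ≃ₗ[B ⧸ I]
      (Fin c → B ⧸ I) ⧸ colSpan (fun i m => Ideal.Quotient.mk I (J i m))) := by
  classical
  let J' : Fin c → Fin r → B ⧸ I := fun i m => Ideal.Quotient.mk I (J i m)
  let q : (Fin c → B) →ₗ[B] (Fin c → B ⧸ I) := (Algebra.linearMap B (B ⧸ I)).compLeft (Fin c)
  let g₀ : (Fin c → B) →ₗ[B] (Fin c → B ⧸ I) ⧸ colSpan J' := (colSpan J').mkQ.restrictScalars B ∘ₗ q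
  have hg : colSpan J ≤ LinearMap.ker g₀ := by
    refine Submodule.span_le.mpr ?_
    rintro _ ⟨m, rfl⟩
    exact (Submodule.Quotient.mk_eq_zero _).mpr (Submodule.subset_span ⟨m, rfl⟩)
  let g : ((Fin c → B) ⧸ colSpan J) →ₗ[B] (Fin c → B ⧸ I) ⧸ colSpan J' := (colSpan J).liftQ g₀ hg
  let G := g.liftBaseChange (B ⧸ I)
  have hG : ∀ z : Fin c → B, G (1 ⊗ₜ Submodule.Quotient.mk z) =
      Submodule.Quotient.mk (fun i => Ideal.Quotient.mk I (z i)) := fun z => by
    rw [LinearMap.liftBaseChange_tmul, one_smul]; rfl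
  refine ⟨LinearEquiv.ofBijective G ⟨?_, ?_⟩⟩
  · rw [injective_iff_map_eq_zero]
    intro x hx
    obtain ⟨v, rfl⟩ := TensorProduct.mk_surjective B ((Fin c → B) ⧸ colSpan J) (B ⧸ I) Ideal.Quotient.mk_surjective x
    obtain ⟨z, rfl⟩ := Submodule.Quotient.mk_surjective _ v
    rw [TensorProduct.mk_apply, hG, Submodule.Quotient.mk_eq_zero] at hx
    obtain ⟨w, hw⟩ := (Submodule.mem_span_range_iff_exists_fun _).mp hx
    choose w' hw' using fun m => Ideal.Quotient.mk_surjective (w m)
    let d : Fin c → B := z - ∑ m, w' m • fun i => J i m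
    have hd : ∀ i, d i ∈ I := fun i => by
      refine Ideal.Quotient.eq_zero_iff_mem.mp ?_
      have := congrFun hw i
      simp only [J', Finset.sum_apply, Pi.smul_apply, smul_eq_mul, ← hw'] at this
      simp [d, Finset.sum_apply, this]
    have hz : z = d + ∑ m, w' m • fun i => J i m := by simp [d]
    rw [TensorProduct.mk_apply, hz, Submodule.Quotient.mk_add, (Submodule.Quotient.mk_eq_zero _).mpr
      (show ∑ m, w' m • (fun i => J i m) ∈ colSpan J from Submodule.sum_mem _ fun m _ => Submodule.smul_mem _ _ (Submodule.subset_span ⟨m, rfl⟩)), add_zero,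
      pi_eq_sum_univ' d, ← Submodule.mkQ_apply, map_sum, TensorProduct.tmul_sum]
    refine Finset.sum_eq_zero fun i _ => ?_
    rw [map_smul, TensorProduct.tmul_smul, TensorProduct.smul_tmul', Algebra.smul_def, mul_one,
      Ideal.Quotient.algebraMap_eq, Ideal.Quotient.eq_zero_iff_mem.mpr (hd i), TensorProduct.zero_tmul]
  · intro v
    obtain ⟨z, rfl⟩ := Submodule.Quotient.mk_surjective _ v
    choose z' hz' using fun i => Ideal.Quotient.mk_surjective (z i)
    exact ⟨_, (hG z').trans (congrArg _ (_root_.funext hz'))⟩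

theorem exists_pow_mem_minorIdeal_iff (T : B) :
    (∃ κ : ℕ, T ^ κ ∈ minorIdeal J) ↔ ∃ m : ℕ, ∀ x : (Fin c → B) ⧸ colSpan J, T ^ m • x = 0 := by
  classical
  constructor
  · rintro ⟨κ, hκ⟩
    rw [← ideal_zero_colSpan] at hκ
    exact ⟨κ, Module.mem_annihilator.mp (FittLib.ideal_zero_le_annihilator hκ)⟩
  · rintro ⟨m, hm⟩
    refine ⟨m * c, ?_⟩
    let y : Fin c → (Fin c → B) ⧸ colSpan J := fun i => Submodule.Quotient.mk (Pi.single i 1)
    have hy : Submodule.span B (Set.range y) = ⊤ := by
      refine eq_top_iff.mpr fun v _ => ?_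
      obtain ⟨z, rfl⟩ := Submodule.Quotient.mk_surjective _ v
      refine (mem_span_range_iff_sum y _).mpr ⟨z, ?_⟩
      conv_rhs => rw [pi_eq_sum_univ' z]
      rw [← Submodule.mkQ_apply, map_sum]
      simp only [map_smul, Submodule.mkQ_apply]
      rfl
    rw [← ideal_zero_colSpan, FittLib.ideal_eq_minors y hy 0]
    simp only [Nat.sub_zero]
    refine Ideal.subset_span ⟨fun b => T ^ m • Pi.single b 1, id, fun b => ?_, ?_⟩
    · rw [Finset.sum_eq_single b]
      · simpa using hm (y b)
      · intro i _ hi; simp [Pi.single_eq_of_ne hi]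
      · simp
    · rw [show (Matrix.of fun a b : Fin c => (T ^ m • (Pi.single b 1 : Fin c → B)) (id a)) = Matrix.diagonal fun _ => T ^ m by
        ext a b; simp [Matrix.diagonal, Pi.single_apply]]
      rw [Matrix.det_diagonal, Finset.prod_const, Finset.card_univ, Fintype.card_fin, ← pow_mul]

end Coker

section PS

variable {k : Type u} [Field k] {r c : ℕ}
  {a : Fin c → RestPS (PowerSeries k) r PowerSeries.X}
  {B : Type u} [CommRing B] [Algebra (PowerSeries k) B] {ψ : RestPS (PowerSeries k) r PowerSeries.X →ₐ[PowerSeries k] B}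

/-- reduction to the closed fibre -/
noncomputable def red (k : Type u) [Field k] (r : ℕ) : MvPolynomial (Fin r) (PowerSeries k) →+* MvPolynomial (Fin r) k :=
  MvPolynomial.map PowerSeries.constantCoeff

theorem red_surjective : Function.Surjective (red k r) :=
  MvPolynomial.map_surjective _ fun x => ⟨PowerSeries.C x, PowerSeries.constantCoeff_C x⟩

theorem ker_red : RingHom.ker (red k r) = Ideal.span {(MvPolynomial.C (PowerSeries.X (R := k)) : MvPolynomial (Fin r) (PowerSeries k)) ^ 1} := by
  rw [red, MvPolynomial.ker_map, pow_one,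
    show RingHom.ker (PowerSeries.constantCoeff (R := k)) = Ideal.span {PowerSeries.X} from
      Ideal.ext fun x => by rw [RingHom.mem_ker, Ideal.mem_span_singleton, PowerSeries.X_dvd_iff],
    Ideal.map_span, Set.image_singleton]

theorem isWeaklyRegular_red
    (h : RingTheory.Sequence.IsWeaklyRegular
      (RestPS (PowerSeries k) r PowerSeries.X ⧸ Ideal.span {algebraMap (PowerSeries k) (RestPS (PowerSeries k) r PowerSeries.X) PowerSeries.X ^ 1})
      ((List.ofFn a).map (Ideal.Quotient.mk (Ideal.span {algebraMap (PowerSeries k) (RestPS (PowerSeries k) r PowerSeries.X) PowerSeries.X ^ 1})))) :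
    RingTheory.Sequence.IsWeaklyRegular (MvPolynomial (Fin r) k) (List.ofFn fun i => red k r (approx a 1 i)) := by
  let K : Ideal (RestPS (PowerSeries k) r PowerSeries.X) :=
    Ideal.span {algebraMap (PowerSeries k) (RestPS (PowerSeries k) r PowerSeries.X) PowerSeries.X ^ 1}
  let f : MvPolynomial (Fin r) (PowerSeries k) →+* RestPS (PowerSeries k) r PowerSeries.X ⧸ K :=
    (Ideal.Quotient.mk K).comp (algebraMap _ _)
  have hf : Function.Surjective f := fun q => by
    obtain ⟨α, rfl⟩ := Ideal.Quotient.mk_surjective q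
    obtain ⟨p, hp⟩ := exists_approx _ α 1
    exact ⟨p, (Ideal.Quotient.eq.mpr hp).symm⟩
  have hk : RingHom.ker f = RingHom.ker (red k r) := by
    rw [ker_red]
    ext p
    rw [RingHom.mem_ker]
    refine ⟨fun hp => mem_of_algebraMap_mem _ (Ideal.Quotient.eq_zero_iff_mem.mp hp), fun hp => ?_⟩
    obtain ⟨q, rfl⟩ := Ideal.mem_span_singleton'.mp hp
    refine Ideal.Quotient.eq_zero_iff_mem.mpr ?_
    rw [map_mul, map_pow, ← algebraMap_restPS]
    exact Ideal.mul_mem_left _ _ (Ideal.mem_span_singleton_self _)
  let e := ((RingHom.quotientKerEquivOfSurjective hf).symm.trans (Ideal.quotEquivOfEq hk)).trans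
    (RingHom.quotientKerEquivOfSurjective (red_surjective (k := k) (r := r)))
  have he : ∀ p, e (f p) = red k r p := fun p => by
    have h1 : (RingHom.quotientKerEquivOfSurjective hf).symm (f p) = Ideal.Quotient.mk _ p := by
      rw [RingEquiv.symm_apply_eq]; rfl
    simp only [e, RingEquiv.trans_apply, h1]
    rfl
  have hlist : (List.ofFn fun i => red k r (approx a 1 i)) = ((List.ofFn a).map (Ideal.Quotient.mk K)).map e := by
    rw [List.map_map, List.map_ofFn]
    refine congrArg List.ofFn (_root_.funext fun i => ?_)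
    show _ = e (Ideal.Quotient.mk K (a i))
    rw [← he]
    exact congrArg e (Ideal.Quotient.eq.mpr (approx_spec a 1 i)).symm
  rw [hlist]
  exact (e.toAddEquiv.isWeaklyRegular_congr (List.forall₂_map_right_iff.mpr
    (List.forall₂_same.mpr fun r _ x => map_mul e r x))).mp h

theorem linearIndependent_jac_closed [PerfectField k]
    (hψ : Function.Surjective ψ) (hker : RingHom.ker ψ.toRingHom = Ideal.span (Set.range a))
    (h : RingTheory.Sequence.IsWeaklyRegular
      (RestPS (PowerSeries k) r PowerSeries.X ⧸ Ideal.span {algebraMap (PowerSeries k) (RestPS (PowerSeries k) r PowerSeries.X) PowerSeries.X ^ 1})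
      ((List.ofFn a).map (Ideal.Quotient.mk (Ideal.span {algebraMap (PowerSeries k) (RestPS (PowerSeries k) r PowerSeries.X) PowerSeries.X ^ 1}))))
    [IsReduced (B ⧸ Ideal.span {algebraMap (PowerSeries k) B PowerSeries.X})] :
    LinearIndependent (B ⧸ Ideal.span {algebraMap (PowerSeries k) B PowerSeries.X ^ 1})
      (jac (lev ψ 1) (approx a 1)) := by
  let B1 := B ⧸ Ideal.span {algebraMap (PowerSeries k) B PowerSeries.X ^ 1}
  haveI : IsReduced B1 := by
    show IsReduced (B ⧸ Ideal.span {algebraMap (PowerSeries k) B PowerSeries.X ^ 1})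
    rw [pow_one]; infer_instance
  letI : Algebra k B1 := ((algebraMap (PowerSeries k) B1).comp PowerSeries.C).toAlgebra
  let φ : MvPolynomial (Fin r) k →ₐ[k] B1 := MvPolynomial.aeval fun m => lev ψ 1 (X m)
  have hX : algebraMap (PowerSeries k) B1 PowerSeries.X = 0 :=
    Ideal.Quotient.eq_zero_iff_mem.mpr (by rw [pow_one]; exact Ideal.mem_span_singleton_self _)
  have hcomp : φ.toRingHom.comp (red k r) = (lev ψ 1).toRingHom := by
    refine MvPolynomial.ringHom_ext (fun f => ?_) fun m => ?_
    · show φ (red k r (C f)) = lev ψ 1 (C f)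
      rw [red, map_C, ← algebraMap_eq, AlgHom.commutes, ← algebraMap_eq, AlgHom.commutes]
      show algebraMap (PowerSeries k) B1 (PowerSeries.C (PowerSeries.constantCoeff f)) = _
      obtain ⟨g, hg⟩ := PowerSeries.X_dvd_iff.mpr
        (show PowerSeries.constantCoeff (f - PowerSeries.C (PowerSeries.constantCoeff f)) = 0 by simp)
      refine (sub_eq_zero.mp ?_).symm
      rw [← map_sub, hg, map_mul, hX, zero_mul]
    · show φ (red k r (X m)) = lev ψ 1 (X m)
      rw [red, map_X]
      exact aeval_X _ _
  have hφ : Function.Surjective φ := fun b => by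
    obtain ⟨p, rfl⟩ := lev_surjective hψ 1 b
    exact ⟨red k r p, RingHom.congr_fun hcomp p⟩
  have hkφ : RingHom.ker φ.toRingHom = Ideal.span (Set.range fun i => red k r (approx a 1 i)) := by
    rw [← Ideal.map_comap_of_surjective (red k r) red_surjective (RingHom.ker φ.toRingHom), RingHom.comap_ker, hcomp,
      ker_lev hψ hker 1, Ideal.map_span, Fin.range_cons, Set.image_insert_eq, ← Set.range_comp]
    have h0 : red k r (C PowerSeries.X ^ 1) = 0 := by
      rw [← RingHom.mem_ker, ker_red]; exact Ideal.mem_span_singleton_self _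
    rw [h0]
    exact Submodule.span_insert_zero
  have hj := linearIndependent_jac hφ hkφ (isWeaklyRegular_red h)
  have heq : jac φ (fun i => red k r (approx a 1 i)) = jac (lev ψ 1) (approx a 1) := by
    funext i m
    show φ (pderiv m (red k r (approx a 1 i))) = lev ψ 1 (pderiv m (approx a 1 i))
    rw [red, MvPolynomial.pderiv_map]
    exact RingHom.congr_fun hcomp _
  rwa [heq] at hj

theorem isSMulRegular_uniformizer [Module.Flat (PowerSeries k) B] :
    IsSMulRegular B (algebraMap (PowerSeries k) B PowerSeries.X) := by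
  have h : IsSMulRegular B (PowerSeries.X : PowerSeries k) :=
    (Module.Flat.isTorsionFree (R := PowerSeries k) (M := B)).isSMulRegular
      (IsRegular.of_ne_zero PowerSeries.X_ne_zero)
  intro x y hxy
  exact h (by simpa [Algebra.smul_def] using hxy)

end PS

end Groth.Agent.FittExtLib
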