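import Mathlib
import Groth.Agent.FittExtLib.PS

set_option autoImplicit false
set_option backward.isDefEq.respectTransparency false
set_option backward.isDefEq.respectTransparency.types false
set_option linter.style.haveILetI false
universe u

namespace Groth.Agent.FittExtLib


theorem setup (k : Type u) [Field k] [PerfectField k] (r c : ℕ)
    (a : Fin c → RestPS (PowerSeries k) r PowerSeries.X)
    (B : Type u) [CommRing B] [Algebra (PowerSeries k) B] [IsNoetherianRing B]
    [IsAdicComplete (Ideal.span {algebraMap (PowerSeries k) B PowerSeries.X}) B]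
    [Module.Flat (PowerSeries k) B]
    (ψ : RestPS (PowerSeries k) r PowerSeries.X →ₐ[PowerSeries k] B)
    (hψ : Function.Surjective ψ) (hker : RingHom.ker ψ.toRingHom = Ideal.span (Set.range a))
    (hreg : ∀ n : ℕ, RingTheory.Sequence.IsRegular
      (RestPS (PowerSeries k) r PowerSeries.X ⧸
        Ideal.span {algebraMap (PowerSeries k) (RestPS (PowerSeries k) r PowerSeries.X) PowerSeries.X ^ (n + 1)})
      ((List.ofFn a).map (Ideal.Quotient.mk (Ideal.span {algebraMap (PowerSeries k)
        (RestPS (PowerSeries k) r PowerSeries.X) PowerSeries.X ^ (n + 1)}))))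
    [IsReduced (B ⧸ Ideal.span {algebraMap (PowerSeries k) B PowerSeries.X})] :
    ∃ J : Fin c → Fin r → B,
      (∀ n i m, J i m - chart ψ (MvPolynomial.pderiv m (approx a n i)) ∈
        Ideal.span {algebraMap (PowerSeries k) B PowerSeries.X ^ n}) ∧
      LinearIndependent B J ∧
      (∀ n, LinearIndependent (B ⧸ Ideal.span {algebraMap (PowerSeries k) B PowerSeries.X ^ n})
        (redJac (R := PowerSeries k) (t := PowerSeries.X) J n)) ∧ c ≤ r := by
  obtain ⟨J, hJ⟩ := exists_jacobian ψ a
  have h0 := linearIndependent_jac_closed hψ hker (hreg 0).toIsWeaklyRegular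
  have hJi := linearIndependent_jacobian hJ isSMulRegular_uniformizer h0
  refine ⟨J, hJ, hJi, fun n => linearIndependent_redJac hJ isSMulRegular_uniformizer h0 n, ?_⟩
  haveI : Nontrivial B := by
    rw [nontrivial_iff]
    refine ⟨0, 1, fun h => (hreg 0).top_ne_smul ?_⟩
    have h1 : (1 : RestPS (PowerSeries k) r PowerSeries.X) ∈ Ideal.span (Set.range a) := by
      rw [← hker, RingHom.mem_ker]; exact (map_one ψ).trans h.symm
    rw [← Ideal.map_ofList, Ideal.ofList, show {x | x ∈ List.ofFn a} = Set.range a by ext; simp [List.mem_ofFn],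
      (Ideal.eq_top_iff_one _).mpr h1, Ideal.map_top, Submodule.top_smul]
  simpa using hJi.fintype_card_le_finrank

end Groth.Agent.FittExtLib
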